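import Cfsg.Agent.Lib.RegUnipProd.Main
import Cfsg.Agent.Lib.SLGen.RegularUnipotent

/-!
Matrices: products of two conjugates of the regular unipotent Jordan block.
-/

set_option autoImplicit false
set_option linter.unusedSectionVars false

namespace CfsgLib.RegUnipProd

open Module Matrix
open scoped Matrix

variable {K : Type*} [Field K] {n : ℕ}

/-- The upper shift. -/
def shiftUp : Matrix (Fin n) (Fin n) K := Matrix.of fun i j => if (j : ℕ) = i + 1 then 1 else 0

theorem shiftUp_pow (k : ℕ) (i j : Fin n) :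
    ((shiftUp : Matrix (Fin n) (Fin n) K) ^ k) i j = if (j : ℕ) = i + k then 1 else 0 := by
  induction k generalizing i j with
  | zero => simp [Matrix.one_apply, Fin.ext_iff, eq_comm]
  | succ k ih =>
    rw [pow_succ', Matrix.mul_apply]
    by_cases hi : (i : ℕ) + 1 < n
    · rw [Finset.sum_eq_single ⟨i + 1, hi⟩]
      · rw [ih]
        simp [shiftUp, add_assoc, add_comm 1 k]
      · intro l _ hl
        have : (l : ℕ) ≠ i + 1 := fun h => hl (Fin.ext h)
        simp [shiftUp, this]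
      · simp
    · rw [Finset.sum_eq_zero fun l _ => by
        have : (l : ℕ) ≠ i + 1 := fun h => hi (h ▸ l.2)
        simp [shiftUp, this]]
      have : (j : ℕ) ≠ i + (k + 1) := fun h => by omega
      simp [this]

theorem shiftUp_pow_self : (shiftUp : Matrix (Fin n) (Fin n) K) ^ n = 0 := by
  ext i j
  have : (j : ℕ) ≠ i + n := by omega
  rw [shiftUp_pow, if_neg this, Matrix.zero_apply]

theorem shiftUp_pow_pred (hn : 1 ≤ n) : (shiftUp : Matrix (Fin n) (Fin n) K) ^ (n - 1) ≠ 0 := fun h => by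
  have := congrFun (congrFun h ⟨0, hn⟩) ⟨n - 1, by omega⟩
  simp [shiftUp_pow] at this

/-- Regular unipotent matrices are conjugate to the Jordan block. -/
theorem exists_conj_shift (A : Matrix (Fin n) (Fin n) K) (h1 : (A - 1) ^ n = 0) (h2 : (A - 1) ^ (n - 1) ≠ 0) :
    ∃ x : GL (Fin n) K, A = x.1 * (1 + shiftUp) * (↑x⁻¹ : Matrix (Fin n) (Fin n) K) := by
  have hn : 1 ≤ n := by
    by_contra h
    haveI : IsEmpty (Fin n) := by rw [show n = 0 by omega]; infer_instance
    exact h2 (Subsingleton.elim _ _)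
  obtain ⟨v, hv⟩ := RegUnip.exists_top h2
  obtain ⟨w, hw⟩ := RegUnip.exists_top (shiftUp_pow_pred (K := K) hn)
  set C := RegUnip.chain (A - 1) v with hC
  set C' := RegUnip.chain (shiftUp : Matrix (Fin n) (Fin n) K) w with hC'
  obtain ⟨y, hy⟩ := (Matrix.isUnit_iff_isUnit_det C).mpr (isUnit_iff_ne_zero.mpr (RegUnip.det_chain_ne_zero h1 hv))
  obtain ⟨z, hz⟩ := (Matrix.isUnit_iff_isUnit_det C').mpr
    (isUnit_iff_ne_zero.mpr (RegUnip.det_chain_ne_zero shiftUp_pow_self hw))
  have e1 := RegUnip.mul_chain (A - 1) v h1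
  have e2 := RegUnip.mul_chain (shiftUp : Matrix (Fin n) (Fin n) K) w shiftUp_pow_self
  rw [← hC, ← hy] at e1
  rw [← hC', ← hz] at e2
  have hd : (↑z⁻¹ : Matrix (Fin n) (Fin n) K) * shiftUp =
      (RegUnip.down : Matrix (Fin n) (Fin n) K) * (↑z⁻¹ : Matrix (Fin n) (Fin n) K) := by
    calc (↑z⁻¹ : Matrix (Fin n) (Fin n) K) * shiftUp = ↑z⁻¹ * (shiftUp * ↑z) * ↑z⁻¹ := by
          rw [mul_assoc, mul_assoc shiftUp, Units.mul_inv, mul_one]
      _ = _ := by rw [e2, ← mul_assoc (↑z⁻¹ : Matrix (Fin n) (Fin n) K), Units.inv_mul, one_mul]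
  refine ⟨y * z⁻¹, ?_⟩
  have e3 : (A - 1) * ((y * z⁻¹ : GL (Fin n) K) : Matrix (Fin n) (Fin n) K) = ((y * z⁻¹ : GL (Fin n) K) : Matrix (Fin n) (Fin n) K) * shiftUp := by
    rw [Units.val_mul, ← mul_assoc, e1, mul_assoc, ← hd, mul_assoc]
  rw [mul_add, mul_one, add_mul, Units.mul_inv, ← e3, mul_assoc, Units.mul_inv, mul_one, add_sub_cancel]

theorem perturb_equiv {V : Type*} [AddCommGroup V] [Module K V] [FiniteDimensional K V] (φ : V →ₗ[K] K) (z : V)
    (h : 1 + φ z ≠ 0) : ∃ E : V ≃ₗ[K] V, ∀ u, E u = u + φ u • z := by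
  refine ⟨LinearEquiv.ofInjectiveEndo (LinearMap.id + φ.smulRight z) ?_, fun u => rfl⟩
  rw [← LinearMap.ker_eq_bot, Submodule.eq_bot_iff]
  intro u hu
  have hu' : u + φ u • z = 0 := hu
  have e := congrArg φ hu'
  rw [map_add, map_smul, map_zero, smul_eq_mul] at e
  have : φ u = 0 := (mul_eq_zero.mp (show φ u * (1 + φ z) = 0 by linear_combination e)).resolve_right h
  rwa [this, zero_smul, add_zero] at hu'

/-- Transvections are conjugate to the corner one. -/
theorem exists_conj_corner (h4 : ∃ k : Fin 4 → K, Function.Injective k) (hn : 2 ≤ n)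
    (T : Module.End K (Fin n → K)) (φ : (Fin n → K) →ₗ[K] K) (y : Fin n → K) (hT : T = φ.smulRight y)
    (hφ : φ ≠ 0) (hy : y ≠ 0) (hφy : φ y = 0) :
    ∃ x : GL (Fin n) K, LinearMap.toMatrix' T = x.1 * shiftUp ^ (n - 1) * (↑x⁻¹ : Matrix (Fin n) (Fin n) K) := by
  classical
  set i0 : Fin n := ⟨0, by omega⟩
  set il : Fin n := ⟨n - 1, by omega⟩
  set e0 : Fin n → K := Pi.single i0 1
  let last : (Fin n → K) →ₗ[K] K := LinearMap.proj il
  have he0 : e0 ≠ 0 := fun h => by simpa [e0] using congrFun h i0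
  have hlast0 : last e0 = 0 := by
    simp [last, e0, Pi.single_apply, i0, il, Fin.ext_iff]; omega
  have hlast : last ≠ 0 := fun h => by simpa [last] using LinearMap.congr_fun h (Pi.single il 1)
  have hev : ∀ v : Fin n → K, v ≠ 0 → Module.Dual.eval K (Fin n → K) v ≠ 0 := fun v hv h => hv (by
    ext i
    simpa using LinearMap.congr_fun h (LinearMap.proj i))
  obtain ⟨ψ, hψ⟩ := avoid_lin h4 [Module.Dual.eval K (Fin n → K) e0, Module.Dual.eval K (Fin n → K) y] (by simp)
    (by simp [hev e0 he0, hev y hy])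
  simp only [List.mem_cons, List.not_mem_nil, or_false, forall_eq_or_imp, forall_eq, Module.Dual.eval_apply] at hψ
  obtain ⟨A, hA⟩ := perturb_equiv ((ψ e0)⁻¹ • ψ) (y - e0) (by
    rw [LinearMap.smul_apply, map_sub, smul_eq_mul, mul_sub, inv_mul_cancel₀ hψ.1, add_sub_cancel]
    exact mul_ne_zero (inv_ne_zero hψ.1) hψ.2)
  have hA0 : A e0 = y := by
    rw [hA, LinearMap.smul_apply, smul_eq_mul, inv_mul_cancel₀ hψ.1, one_smul, add_sub_cancel]
  set φ' := φ ∘ₗ A.toLinearMap with hφ'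
  have hφ'0 : φ' ≠ 0 := fun h => hφ (LinearMap.ext fun v => by simpa [hφ'] using LinearMap.congr_fun h (A.symm v))
  obtain ⟨z, hz⟩ := avoid_lin h4 [φ', last] (by simp) (by simp [hφ'0, hlast])
  simp only [List.mem_cons, List.not_mem_nil, or_false, forall_eq_or_imp, forall_eq] at hz
  obtain ⟨B, hB⟩ := perturb_equiv ((φ' z)⁻¹ • (last - φ')) z (by
    rw [LinearMap.smul_apply, LinearMap.sub_apply, smul_eq_mul, mul_sub, inv_mul_cancel₀ hz.1, add_sub_cancel]
    exact mul_ne_zero (inv_ne_zero hz.1) hz.2)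
  have hB0 : B e0 = e0 := by
    have : φ' e0 = 0 := by simp [hφ', hA0, hφy]
    rw [hB, LinearMap.smul_apply, LinearMap.sub_apply, hlast0, this, sub_self, smul_zero, zero_smul, add_zero]
  have hBφ : ∀ u, φ' (B u) = last u := fun u => by
    rw [hB, map_add, map_smul, LinearMap.smul_apply, LinearMap.sub_apply, smul_eq_mul, smul_eq_mul]
    field_simp [hz.1]
    ring
  set X : Module.End K (Fin n → K) := A.toLinearMap ∘ₗ B.toLinearMap with hX
  set Y : Module.End K (Fin n → K) := B.symm.toLinearMap ∘ₗ A.symm.toLinearMap with hY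
  have hXY : X * Y = 1 := LinearMap.ext fun u => by simp [hX, hY]
  have hYX : Y * X = 1 := LinearMap.ext fun u => by simp [hX, hY]
  refine ⟨⟨LinearMap.toMatrix' X, LinearMap.toMatrix' Y, ?_, ?_⟩, ?_⟩
  · rw [← LinearMap.toMatrix'_mul, hXY]; exact LinearMap.toMatrix'_id
  · rw [← LinearMap.toMatrix'_mul, hYX]; exact LinearMap.toMatrix'_id
  show _ = LinearMap.toMatrix' X * shiftUp ^ (n - 1) * LinearMap.toMatrix' Y
  have hS : Matrix.toLin' ((shiftUp : Matrix (Fin n) (Fin n) K) ^ (n - 1)) = last.smulRight e0 := by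
    refine LinearMap.ext fun u => funext fun i => ?_
    simp only [Matrix.toLin'_apply, Matrix.mulVec, dotProduct, shiftUp_pow, LinearMap.smulRight_apply, last,
      LinearMap.proj_apply, Pi.smul_apply, smul_eq_mul, e0, Pi.single_apply]
    by_cases hi : i = i0
    · subst hi
      rw [Finset.sum_eq_single il]
      · simp [i0, il]
      · intro l _ hl
        have : (l : ℕ) ≠ n - 1 := fun h => hl (Fin.ext h)
        simp [i0, this]
      · simp
    · rw [if_neg hi, mul_zero]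
      refine Finset.sum_eq_zero fun l _ => ?_
      have : (i : ℕ) ≠ 0 := fun h => hi (Fin.ext h)
      have : (l : ℕ) ≠ i + (n - 1) := by omega
      simp [this]
  rw [← LinearMap.toMatrix'_toLin' ((shiftUp : Matrix (Fin n) (Fin n) K) ^ (n - 1)), hS, ← LinearMap.toMatrix'_mul,
    ← LinearMap.toMatrix'_mul]
  congr 1
  refine LinearMap.ext fun v => ?_
  rw [hT, Module.End.mul_apply, Module.End.mul_apply, LinearMap.smulRight_apply, LinearMap.smulRight_apply, map_smul]
  congr 1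
  · rw [← hBφ]; simp [hY, hφ']
  · simp [hX, hA0, hB0]

theorem det_one_add_smulRight (φ : (Fin n → K) →ₗ[K] K) (y : Fin n → K) :
    LinearMap.det (1 + φ.smulRight y : Module.End K (Fin n → K)) = 1 + φ y := by
  rw [← LinearMap.det_toMatrix', map_add, show LinearMap.toMatrix' (1 : Module.End K (Fin n → K)) = 1 from
    LinearMap.toMatrix'_id]
  have : LinearMap.toMatrix' (φ.smulRight y) = Matrix.replicateCol Unit y *
      Matrix.replicateRow Unit (fun j => φ (Pi.single j 1)) := by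
    ext i j
    simp [LinearMap.toMatrix'_apply, Matrix.mul_apply, Pi.single_apply, mul_comm]
  rw [this, Matrix.det_one_add_replicateCol_mul_replicateRow]
  congr 1
  conv_rhs => rw [pi_eq_sum_univ y, map_sum]
  refine Finset.sum_congr rfl fun j _ => ?_
  rw [map_smul, smul_eq_mul, show (fun l => if j = l then (1 : K) else 0) = Pi.single j 1 from
    funext fun l => by simp [Pi.single_apply, eq_comm]]
  ring

/-- Non-scalar matrices of determinant one. -/
theorem exists_two_regular (h4 : ∃ k : Fin 4 → K, Function.Injective k) (hn : 3 ≤ n)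
    (g : Matrix (Fin n) (Fin n) K) (hg : ¬ ∃ c : K, g = c • 1) (hdet : g.det = 1) :
    ∃ x y : GL (Fin n) K, g = (x.1 * (1 + shiftUp) * (↑x⁻¹ : Matrix (Fin n) (Fin n) K)) *
      (y.1 * (1 + shiftUp) * (↑y⁻¹ : Matrix (Fin n) (Fin n) K)) := by
  suffices ∃ L U : Matrix (Fin n) (Fin n) K, g = L * U ∧ (L - 1) ^ n = 0 ∧ (U - 1) ^ n = 0 ∧
      (L - 1) ^ (n - 1) ≠ 0 ∧ (U - 1) ^ (n - 1) ≠ 0 by
    obtain ⟨L, U, e, h1, h2, h3, h4'⟩ := this
    obtain ⟨x, hx⟩ := exists_conj_shift L h1 h3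
    obtain ⟨y, hy⟩ := exists_conj_shift U h2 h4'
    exact ⟨x, y, by rw [e, hx, hy]⟩
  set M : Module.End K (Fin n → K) := Matrix.toLin' g with hM
  have hdM : LinearMap.det M = 1 := by rw [hM, LinearMap.det_toLin']; exact hdet
  have hns : ¬ ∃ s : K, M = s • 1 := fun ⟨s, hs⟩ => hg ⟨s, by
    have := congrArg LinearMap.toMatrix' hs
    rwa [hM, LinearMap.toMatrix'_toLin', map_smul, show LinearMap.toMatrix' (1 : Module.End K (Fin n → K)) = 1
      from LinearMap.toMatrix'_id] at this⟩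
  rcases Nat.lt_or_ge (finrank K (LinearMap.range (M - 1))) 2 with hr | hr
  · -- a transvection
    have hne : LinearMap.range (M - 1) ≠ ⊥ := fun h => hns ⟨1, by
      rw [LinearMap.range_eq_bot, sub_eq_zero] at h; rw [h, one_smul]⟩
    obtain ⟨y, hy, hy0⟩ := Submodule.exists_mem_ne_zero_of_ne_bot hne
    obtain ⟨φ, hφ1, -⟩ := sep (p := (⊥ : Submodule K (Fin n → K))) (x := y) (by simpa using hy0)
    have hT : M - 1 = (φ ∘ₗ (M - 1)).smulRight y := by
      have hspan : LinearMap.range (M - 1) = Submodule.span K {y} := (Submodule.eq_of_le_of_finrank_le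
        ((Submodule.span_singleton_le_iff_mem _ _).mpr hy) (by
          rw [finrank_span_singleton hy0]; omega)).symm
      refine LinearMap.ext fun v => ?_
      obtain ⟨a, ha⟩ := Submodule.mem_span_singleton.mp (hspan ▸ LinearMap.mem_range_self (M - 1) v)
      rw [LinearMap.smulRight_apply, LinearMap.comp_apply, ← ha, map_smul, hφ1, smul_eq_mul, mul_one]
    have hφy : (φ ∘ₗ (M - 1)) y = 0 := by
      have := det_one_add_smulRight (φ ∘ₗ (M - 1)) y
      rw [← hT, add_sub_cancel, hdM] at this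
      linear_combination -this
    obtain ⟨x, hx⟩ := exists_conj_corner h4 (by omega) (M - 1) _ y hT
      (fun h => hne (by rw [hT, h]; ext v; simp)) hy0 hφy
    have hgx : g = x.1 * (1 + shiftUp ^ (n - 1)) * (↑x⁻¹ : Matrix (Fin n) (Fin n) K) := by
      rw [mul_add, mul_one, add_mul, Units.mul_inv, ← hx, map_sub, hM, LinearMap.toMatrix'_toLin',
        show LinearMap.toMatrix' (1 : Module.End K (Fin n → K)) = 1 from LinearMap.toMatrix'_id, add_sub_cancel]
    have hnil : IsNilpotent (shiftUp : Matrix (Fin n) (Fin n) K) := ⟨n, shiftUp_pow_self⟩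
    obtain ⟨J, hJ⟩ := hnil.isUnit_one_add
    have hcJ : Commute (↑J⁻¹ : Matrix (Fin n) (Fin n) K) shiftUp :=
      Commute.units_inv_left (by rw [hJ]; exact (Commute.one_left _).add_left (Commute.refl _))
    have hw : IsUnit ((↑J⁻¹ : Matrix (Fin n) (Fin n) K) * (shiftUp ^ (n - 2) - 1)) :=
      J⁻¹.isUnit.mul (IsNilpotent.isUnit_sub_one (hnil.pow_of_pos (by omega)))
    set w := (↑J⁻¹ : Matrix (Fin n) (Fin n) K) * (shiftUp ^ (n - 2) - 1) with hwdef
    have hcw : Commute (shiftUp : Matrix (Fin n) (Fin n) K) w :=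
      hcJ.symm.mul_right (((Commute.refl _).pow_right _).sub_right (Commute.one_right _))
    have hU : (↑J⁻¹ : Matrix (Fin n) (Fin n) K) * (1 + shiftUp ^ (n - 1)) - 1 = shiftUp * w := by
      have : (↑J⁻¹ : Matrix (Fin n) (Fin n) K) * (1 + shiftUp) = 1 := by rw [← hJ, Units.inv_mul]
      refine (congrArg (_ - ·) this.symm).trans ?_
      rw [← mul_sub, add_sub_add_left_eq_sub]
      rw [hwdef, ← mul_assoc, ← hcJ.eq, mul_assoc, mul_sub shiftUp, mul_one, ← pow_succ', show n - 2 + 1 = n - 1 by omega]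
    have hUpow : ∀ k, ((↑J⁻¹ : Matrix (Fin n) (Fin n) K) * (1 + shiftUp ^ (n - 1)) - 1) ^ k = shiftUp ^ k * w ^ k :=
      fun k => by rw [hU, hcw.mul_pow]
    have hcn : ∀ (a : Matrix (Fin n) (Fin n) K) (k : ℕ),
        (x.1 * a * (↑x⁻¹ : Matrix (Fin n) (Fin n) K) - 1) ^ k = x.1 * (a - 1) ^ k * (↑x⁻¹ : Matrix (Fin n) (Fin n) K) := by
      intro a k
      rw [show x.1 * a * (↑x⁻¹ : Matrix (Fin n) (Fin n) K) - 1 = x.1 * (a - 1) * (↑x⁻¹ : Matrix (Fin n) (Fin n) K) by
        rw [mul_sub, sub_mul, mul_one, Units.mul_inv]]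
      exact Units.conj_pow x (a - 1) k
    refine ⟨x.1 * (1 + shiftUp) * (↑x⁻¹ : Matrix (Fin n) (Fin n) K),
      x.1 * ((↑J⁻¹ : Matrix (Fin n) (Fin n) K) * (1 + shiftUp ^ (n - 1))) * (↑x⁻¹ : Matrix (Fin n) (Fin n) K),
      ?_, ?_, ?_, ?_, ?_⟩
    · rw [hgx]
      rw [← hJ]
      simp [mul_assoc]
    · rw [hcn, add_sub_cancel_left, shiftUp_pow_self, mul_zero, zero_mul]
    · rw [hcn, hUpow, shiftUp_pow_self, zero_mul, mul_zero, zero_mul]
    · rw [hcn, add_sub_cancel_left]
      intro h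
      rw [← Units.eq_mul_inv_iff_mul_eq, zero_mul] at h
      exact shiftUp_pow_pred (K := K) (show 1 ≤ n by omega) (by simpa using h)
    · rw [hcn, hUpow]
      intro h
      have h' : (shiftUp : Matrix (Fin n) (Fin n) K) ^ (n - 1) * w ^ (n - 1) = 0 := by
        have := congrArg (fun a => (↑x⁻¹ : Matrix (Fin n) (Fin n) K) * a * x.1) h
        simpa [mul_assoc] using this
      exact shiftUp_pow_pred (K := K) (show 1 ≤ n by omega) ((hw.pow (n - 1)).mul_left_eq_zero.mp h')
  · obtain ⟨j, rfl⟩ : ∃ j, n = j + 1 := ⟨n - 1, by omega⟩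
    have h1 : (Pi.single 0 1 : Fin (j + 1) → K) ≠ 0 := fun h => by simpa using congrFun h 0
    have h2 : (LinearMap.proj 0 : (Fin (j + 1) → K) →ₗ[K] K) ≠ 0 := fun h => by
      simpa using LinearMap.congr_fun h (Pi.single 0 1)
    obtain ⟨L, U, e, hL, hU, hLc, v, hUb⟩ := factor_aux h4 j M (by simp) hdM (Or.inr ⟨hr, hns⟩) _ _ h1 h2
    have hconv : ∀ (A : Module.End K (Fin (j + 1) → K)) (k : ℕ),
        (LinearMap.toMatrix' A - 1) ^ k = LinearMap.toMatrix' ((A - 1) ^ k) := fun A k => by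
      rw [show (LinearMap.toMatrix' ((A - 1) ^ k)) = LinearMap.toMatrixAlgEquiv' ((A - 1) ^ k) from rfl, map_pow,
        map_sub, map_one]
      rfl
    refine ⟨LinearMap.toMatrix' L, LinearMap.toMatrix' U, ?_, ?_, ?_, ?_, ?_⟩
    · rw [← LinearMap.toMatrix'_mul, ← e, hM, LinearMap.toMatrix'_toLin']
    · rw [hconv, hL, map_zero]
    · rw [hconv, hU, map_zero]
    · rw [hconv, Nat.add_sub_cancel, ne_eq, LinearEquiv.map_eq_zero_iff]
      exact fun h => hLc (by rw [h, LinearMap.zero_apply])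
    · rw [hconv, Nat.add_sub_cancel, ne_eq, LinearEquiv.map_eq_zero_iff]
      exact fun h => hUb (by rw [h, LinearMap.zero_apply, map_zero])

end CfsgLib.RegUnipProd
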