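import Cfsg.Agent.Lib.RegUnipProd.Step

/-!
The factorisation into two regular unipotent maps.
-/

set_option autoImplicit false
set_option linter.unusedSectionVars false

namespace CfsgLib.RegUnipProd

open Module LinearMap

universe u v

variable {K : Type u} [Field K]

section Extend

variable {V : Type v} [AddCommGroup V] [Module K V] (e : V) (f : V →ₗ[K] K) (hfe : f e = 1)

/-- The projection to the kernel along `e`. -/
noncomputable def proj : V →ₗ[K] LinearMap.ker f :=
  LinearMap.codRestrict (LinearMap.ker f) (LinearMap.id - f.smulRight e) fun v => by simp [hfe]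

theorem coe_proj (v : V) : (proj e f hfe v : V) = v - f v • e := rfl

theorem proj_self : proj e f hfe e = 0 := Subtype.ext (by simp [coe_proj, hfe])

theorem proj_coe (x : LinearMap.ker f) : proj e f hfe x = x :=
  Subtype.ext (by rw [coe_proj, LinearMap.mem_ker.mp x.2, zero_smul, sub_zero])

/-- Extend from the kernel, sending `e` to `d`. -/
noncomputable def ext (G : Module.End K (LinearMap.ker f)) (d : V) : Module.End K V :=
  f.smulRight d + (LinearMap.ker f).subtype ∘ₗ G ∘ₗ proj e f hfe

theorem ext_apply (G : Module.End K (LinearMap.ker f)) (d v : V) :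
    ext e f hfe G d v = f v • d + (G (proj e f hfe v) : V) := rfl

theorem ext_one : ext e f hfe 1 e = 1 := LinearMap.ext fun v => by simp [ext_apply, coe_proj]

theorem det_ext [FiniteDimensional K V] (G : Module.End K (LinearMap.ker f)) :
    LinearMap.det (ext e f hfe G e) = LinearMap.det G := by
  let Φ : (K × LinearMap.ker f) ≃ₗ[K] V := LinearEquiv.ofLinear
    (LinearMap.coprod (LinearMap.toSpanSingleton K V e) (LinearMap.ker f).subtype)
    (LinearMap.prod f (proj e f hfe)) (LinearMap.ext fun v => by simp [coe_proj])
    (LinearMap.ext fun x => Prod.ext (by simp [hfe, LinearMap.mem_ker.mp x.2.2])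
      (Subtype.ext (by simp [coe_proj, hfe, LinearMap.mem_ker.mp x.2.2])))
  have : ext e f hfe G e = Φ.toLinearMap ∘ₗ (LinearMap.id.prodMap G) ∘ₗ Φ.symm.toLinearMap :=
    LinearMap.ext fun v => by simp [Φ, ext_apply]
  rw [this, LinearMap.det_conj, LinearMap.det_prodMap, LinearMap.det_id, one_mul]

end Extend

/-- The induction statement. -/
theorem factor_aux (h4 : ∃ k : Fin 4 → K, Function.Injective k) :
    ∀ (j : ℕ) {V : Type v} [AddCommGroup V] [Module K V] [FiniteDimensional K V] (M : Module.End K V),
      finrank K V = j + 1 → LinearMap.det M = 1 →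
      (j = 0 ∨ (2 ≤ finrank K (LinearMap.range (M - 1)) ∧ ¬ ∃ s : K, M = s • 1)) →
      ∀ (c : V) (b : V →ₗ[K] K), c ≠ 0 → b ≠ 0 →
        ∃ L U : Module.End K V, M = L * U ∧ (L - 1) ^ (j + 1) = 0 ∧ (U - 1) ^ (j + 1) = 0 ∧
          ((L - 1) ^ j) c ≠ 0 ∧ ∃ v, b (((U - 1) ^ j) v) ≠ 0 := by
  intro j
  induction j with
  | zero =>
    intro V _ _ _ M hfin hdet _ c b hc hb
    obtain ⟨a, ha⟩ : ∃ a : K, M = a • 1 := by
      obtain ⟨v, hv, hall⟩ := finrank_eq_one_iff'.mp (show finrank K V = 1 by rw [hfin])
      obtain ⟨a, ha⟩ := hall (M v)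
      refine ⟨a, LinearMap.ext fun w => ?_⟩
      obtain ⟨t, rfl⟩ := hall w
      simp only [map_smul, ← ha, LinearMap.smul_apply, Module.End.one_apply, smul_comm t a]
    have ha1 : a = 1 := by
      rw [ha, LinearMap.det_smul, hfin, pow_one, show LinearMap.det (1 : Module.End K V) = 1 from map_one _,
        mul_one] at hdet
      exact hdet
    rw [ha1, one_smul] at ha
    refine ⟨1, 1, by rw [ha, one_mul], by simp, by simp, by simpa using hc, ?_⟩
    by_contra h
    push Not at h
    exact hb (LinearMap.ext fun v => by simpa using h v)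
  | succ j ih =>
    intro V _ _ _ M hfin hdet hgood c b hc hb
    obtain ⟨hr, hns⟩ := hgood.resolve_left (by omega)
    obtain ⟨e, f, hfe, hfM, hbe, hfc, hMe, ⟨y, hy⟩, hgood'⟩ := choose_ef h4 M hdet hr hns hc hb
    set W := LinearMap.ker f with hW
    set π := proj e f hfe with hπ
    set β : W →ₗ[K] K := (f ∘ₗ M) ∘ₗ W.subtype with hβ
    have hWfin : finrank K W = j + 1 := by
      have h := LinearMap.finrank_range_add_finrank_ker f
      have hsurj : LinearMap.range f = ⊤ := LinearMap.range_eq_top.mpr fun t => ⟨t • e, by simp [hfe]⟩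
      rw [hsurj, finrank_top, finrank_self, hfin] at h
      show finrank K (LinearMap.ker f) = j + 1
      omega
    -- the complement
    let G : Module.End K W := LinearMap.codRestrict W (M ∘ₗ W.subtype - β.smulRight (M e)) fun x => by
      simp [hW, hβ, hfM]
    have hG : ∀ x : W, (G x : V) = M x - f (M x) • M e := fun x => rfl
    let c' : W := ⟨M e - e, by simp [hW, hfM, hfe]⟩
    have hc' : c' ≠ 0 := fun h => hMe (sub_eq_zero.mp (congrArg Subtype.val h))
    have hβ0 : β ≠ 0 := fun h => hy (by
      have := LinearMap.congr_fun h (π y)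
      simp only [hβ, LinearMap.comp_apply, Submodule.coe_subtype, hπ, coe_proj, map_sub, map_smul, smul_eq_mul,
        hfM, mul_one, LinearMap.zero_apply] at this
      rw [map_sub]; exact this)
    have hπe : π e = 0 := proj_self e f hfe
    have hπx : ∀ x : W, π x = x := proj_coe e f hfe
    have hfW : ∀ x : W, f x = 0 := fun x => LinearMap.mem_ker.mp x.2
    have hdetG : LinearMap.det G = 1 := by
      have hdec : M = ext e f hfe 1 (M e) * ext e f hfe G e * (1 + (β ∘ₗ π).smulRight e) := by
        refine LinearMap.ext fun v => ?_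
        have e1 : (1 + (β ∘ₗ π).smulRight e) v = v + β (π v) • e := by simp
        have e2 : ext e f hfe G e (v + β (π v) • e) = (f v + β (π v)) • e + (G (π v) : V) := by
          rw [ext_apply, show proj e f hfe = π from rfl, map_add, map_add, map_smul, map_smul, hπe, smul_zero,
            add_zero, hfe, smul_eq_mul, mul_one]
        rw [Module.End.mul_apply, Module.End.mul_apply, e1, e2, ext_apply, show proj e f hfe = π from rfl, map_add,
          map_add, map_smul, map_smul, hπe, smul_zero, zero_add, hfe, smul_eq_mul, mul_one, hfW, add_zero, hπx,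
          Module.End.one_apply, hG]
        simp only [hβ, hπ, LinearMap.comp_apply, Submodule.coe_subtype, coe_proj, map_sub, map_smul, smul_eq_mul,
          hfM, mul_one]
        module
      have h1 : LinearMap.det (ext e f hfe (1 : Module.End K W) (M e)) = 1 := by
        have : ext e f hfe (1 : Module.End K W) (M e) = 1 + f.smulRight (M e - e) := LinearMap.ext fun v => by
          simp [ext_apply, coe_proj, smul_sub]; abel
        rw [this]
        exact det_one_add_sq_zero _ (LinearMap.ext fun v => by simp [hfM, hfe])
      have h2 : LinearMap.det (1 + (β ∘ₗ π).smulRight e) = 1 :=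
        det_one_add_sq_zero _ (LinearMap.ext fun v => by simp [hπe])
      have h3 : LinearMap.det M = 1 := hdet
      rw [hdec, map_mul, map_mul, h1, h2, det_ext, one_mul, mul_one] at h3
      exact h3
    have hgoodG : j = 0 ∨ (2 ≤ finrank K (LinearMap.range (G - 1)) ∧ ¬ ∃ s : K, G = s • 1) := by
      refine (Nat.eq_zero_or_pos j).imp_right fun hj => ?_
      obtain ⟨hP, hS⟩ := hgood' (by omega)
      have hker : finrank K (LinearMap.ker (G - 1)) + 3 ≤ finrank K V := by
        refine le_trans (Nat.add_le_add_right ?_ 3) hP
        rw [← Submodule.finrank_map_subtype_eq]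
        refine Submodule.finrank_mono ?_
        rintro _ ⟨x, hx, rfl⟩
        refine ⟨Submodule.mem_comap.mpr (Submodule.mem_span_singleton.mpr ⟨f (M x), ?_⟩), x.2⟩
        have := congrArg Subtype.val (LinearMap.mem_ker.mp hx)
        simp only [LinearMap.sub_apply, Module.End.one_apply, Submodule.coe_sub, hG, Submodule.coe_zero,
          Submodule.coe_subtype] at this ⊢
        rw [← sub_eq_zero]
        linear_combination (norm := module) -this
      have h2 : 2 ≤ finrank K (LinearMap.range (G - 1)) := by
        have := LinearMap.finrank_range_add_finrank_ker (G - 1)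
        omega
      refine ⟨h2, fun ⟨s, hs⟩ => ?_⟩
      by_cases hs1 : s = 1
      · rw [hs, hs1, one_smul, sub_self, LinearMap.range_zero, finrank_bot] at h2
        omega
      refine hS s hs1 ?_ fun x hx => ?_
      · rw [hs, LinearMap.det_smul, show LinearMap.det (1 : Module.End K W) = 1 from map_one _, mul_one, hWfin] at hdetG
        rwa [show finrank K V - 1 = j + 1 by omega]
      · have := congrArg Subtype.val (LinearMap.congr_fun hs ⟨x, hx⟩)
        rw [hG] at this
        simp only [LinearMap.smul_apply, Module.End.one_apply, Submodule.coe_smul] at this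
        rw [Submodule.mem_comap, sub_smul_one_apply, Submodule.mem_span_singleton]
        exact ⟨f (M x), by rw [← this]; abel⟩
    obtain ⟨L', U', hLU, hL', hU', hLc, v', hUb⟩ := ih G hWfin hdetG hgoodG c' β hc' hβ0
    set L := ext e f hfe L' (M e) with hLdef
    set U := ext e f hfe U' e + (β ∘ₗ π).smulRight e with hUdef
    have hLstep : ∀ v, (L - 1) v = ((f v • c' + (L' - 1) (π v) : W) : V) := fun v => by
      simp only [hLdef, hπ, LinearMap.sub_apply, Module.End.one_apply, ext_apply, Submodule.coe_add,
        Submodule.coe_smul, Submodule.coe_sub, coe_proj, c']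
      module
    have hLpow : ∀ (i : ℕ) (v : V), ((L - 1) ^ (i + 1)) v =
        ((((L' - 1) ^ i) (f v • c' + (L' - 1) (π v)) : W) : V) := by
      intro i v
      induction i with
      | zero => simpa using hLstep v
      | succ i ihi =>
        rw [pow_succ', Module.End.mul_apply, ihi, hLstep, LinearMap.mem_ker.mp (Subtype.prop _), zero_smul, zero_add,
          hπ, proj_coe, pow_succ' (L' - 1) i, Module.End.mul_apply]
    have hUstep : ∀ v, (U - 1) v = (((U' - 1) (π v) : W) : V) + β (π v) • e := fun v => by
      simp only [hUdef, hπ, LinearMap.sub_apply, LinearMap.add_apply, Module.End.one_apply, ext_apply,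
        LinearMap.smulRight_apply, LinearMap.comp_apply, Submodule.coe_sub, coe_proj]
      module
    have hUpow : ∀ (i : ℕ) (v : V), ((U - 1) ^ (i + 1)) v =
        ((((U' - 1) ^ (i + 1)) (π v) : W) : V) + β (((U' - 1) ^ i) (π v)) • e := by
      intro i v
      induction i with
      | zero => simpa using hUstep v
      | succ i ihi =>
        have hp : π (((((U' - 1) ^ (i + 1)) (π v) : W) : V) + β (((U' - 1) ^ i) (π v)) • e) =
            ((U' - 1) ^ (i + 1)) (π v) := by
          rw [hπ, map_add, proj_coe, map_smul, proj_self, smul_zero, add_zero]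
        rw [pow_succ', Module.End.mul_apply, ihi, hUstep, hp, pow_succ' (U' - 1) (i + 1), Module.End.mul_apply]
    refine ⟨L, U, ?_, ?_, ?_, ?_, ⟨(v' : V), ?_⟩⟩
    · refine LinearMap.ext fun v => ?_
      have hπU : π (U v) = U' (π v) := by
        simp [hUdef, hπ, ext_apply, proj_self, proj_coe]
      have hfU : f (U v) = f v + β (π v) := by
        simp [hUdef, hπ, ext_apply, hfe, LinearMap.mem_ker.mp (U' _).2]
      have hG' : (L' (U' (π v)) : V) = M (π v) - f (M (π v)) • M e := by
        rw [← hG, hLU]; rfl
      rw [Module.End.mul_apply, hLdef, ext_apply, hfU]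
      rw [show proj e f hfe (U v) = U' (π v) from hπU, hG']
      simp only [hβ, hπ, LinearMap.comp_apply, Submodule.coe_subtype, coe_proj, map_sub, map_smul, smul_eq_mul, hfM,
        mul_one]
      module
    · refine LinearMap.ext fun v => ?_
      rw [hLpow (j + 1), hL', LinearMap.zero_apply, LinearMap.zero_apply, Submodule.coe_zero]
    · refine LinearMap.ext fun v => ?_
      rw [hUpow (j + 1), pow_succ' (U' - 1) (j + 1), hU', mul_zero, LinearMap.zero_apply, map_zero, zero_smul,
        Submodule.coe_zero, zero_add, LinearMap.zero_apply]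
    · rw [hLpow j]
      intro h
      have h' : ((L' - 1) ^ j) (f c • c' + (L' - 1) (π c)) = 0 := Subtype.ext h
      rw [map_add, map_smul, ← Module.End.mul_apply, ← pow_succ, hL', LinearMap.zero_apply, add_zero] at h'
      exact hLc ((smul_eq_zero.mp h').resolve_left hfc)
    · rw [hUpow j, hπ, proj_coe, hU', LinearMap.zero_apply, Submodule.coe_zero, zero_add, map_smul, smul_eq_mul]
      exact mul_ne_zero hUb hbe

end CfsgLib.RegUnipProd
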