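import Mathlib

/-!
A non-scalar map of determinant one as a product of two regular unipotent maps.
-/

set_option autoImplicit false
set_option linter.unusedSectionVars false

namespace CfsgLib.RegUnipProd

open Module LinearMap

variable {K : Type*} [Field K]

/-- A value outside three given ones. -/
theorem exists_notMem (h4 : ∃ k : Fin 4 → K, Function.Injective k) (s : Finset K) (hs : s.card ≤ 3) :
    ∃ x : K, x ∉ s := by
  classical
  obtain ⟨k, hk⟩ := h4
  by_contra h
  push Not at h
  have := Finset.card_le_card (fun x _ => h x : Finset.univ.image k ⊆ s)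
  rw [Finset.card_image_of_injective _ hk, Finset.card_univ, Fintype.card_fin] at this
  omega

variable {V : Type*} [AddCommGroup V] [Module K V]

/-- A functional separating a vector from a subspace. -/
theorem sep {p : Submodule K V} {x : V} (hx : x ∉ p) : ∃ φ : V →ₗ[K] K, φ x = 1 ∧ ∀ y ∈ p, φ y = 0 := by
  obtain ⟨φ, h1, h2⟩ := Submodule.exists_dual_map_eq_bot_of_notMem hx inferInstance
  refine ⟨(φ x)⁻¹ • φ, by simp [h1], fun y hy => ?_⟩
  have : φ y ∈ p.map φ := ⟨y, hy, rfl⟩
  rw [h2, Submodule.mem_bot] at this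
  simp [this]

theorem sep_proper {p : Submodule K V} (hp : p ≠ ⊤) : ∃ φ : V →ₗ[K] K, φ ≠ 0 ∧ ∀ y ∈ p, φ y = 0 := by
  obtain ⟨x, hx⟩ : ∃ x, x ∉ p := by
    by_contra h; push Not at h; exact hp (Submodule.eq_top_iff'.mpr h)
  obtain ⟨φ, h1, h2⟩ := sep hx
  exact ⟨φ, fun e => by simp [e] at h1, h2⟩

/-- Four proper hyperplanes do not cover. -/
theorem avoid_lin (h4 : ∃ k : Fin 4 → K, Function.Injective k) :
    ∀ l : List (V →ₗ[K] K), l.length ≤ 4 → (∀ φ ∈ l, φ ≠ 0) → ∃ x : V, ∀ φ ∈ l, φ x ≠ 0 := by
  classical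
  intro l
  induction l with
  | nil => exact fun _ _ => ⟨0, by simp⟩
  | cons φ l ih =>
    intro hlen hne
    simp only [List.length_cons] at hlen
    obtain ⟨x, hx⟩ := ih (by omega) fun ψ h => hne ψ (List.mem_cons_of_mem _ h)
    by_cases hφx : φ x = 0
    · obtain ⟨y, hy⟩ : ∃ y, φ y ≠ 0 := by
        by_contra h; push Not at h; exact hne φ List.mem_cons_self (LinearMap.ext h)
      obtain ⟨t, ht⟩ := exists_notMem h4 ((l.map fun ψ => -(ψ y) / ψ x).toFinset)
        ((List.toFinset_card_le _).trans (by rw [List.length_map]; omega))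
      refine ⟨y + t • x, fun ψ hψ => ?_⟩
      rcases List.mem_cons.mp hψ with rfl | hψ
      · simpa [hφx] using hy
      · intro e
        refine ht (List.mem_toFinset.mpr (List.mem_map.mpr ⟨ψ, hψ, ?_⟩))
        rw [div_eq_iff (hx ψ hψ)]
        simp only [map_add, map_smul, smul_eq_mul] at e
        linear_combination -e
    · exact ⟨x, fun ψ hψ => by rcases List.mem_cons.mp hψ with rfl | hψ; exacts [hφx, hx ψ hψ]⟩

/-- Three forbidden values on the functionals taking the value one at two vectors. -/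
theorem avoid_affine (h4 : ∃ k : Fin 4 → K, Function.Injective k) (e u : V)
    (hbase : ∃ f : V →ₗ[K] K, f e = 1 ∧ f u = 1) :
    ∀ l : List V, l.length ≤ 3 → (∀ v ∈ l, ∃ f : V →ₗ[K] K, f e = 1 ∧ f u = 1 ∧ f v ≠ 0) →
      ∃ f : V →ₗ[K] K, f e = 1 ∧ f u = 1 ∧ ∀ v ∈ l, f v ≠ 0 := by
  classical
  intro l
  induction l with
  | nil =>
    obtain ⟨f, h1, h2⟩ := hbase
    exact fun _ _ => ⟨f, h1, h2, by simp⟩
  | cons v l ih =>
    intro hlen hex
    simp only [List.length_cons] at hlen
    obtain ⟨f, hfe, hfu, hf⟩ := ih (by omega) fun w h => hex w (List.mem_cons_of_mem _ h)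
    obtain ⟨g, hge, hgu, hg⟩ := hex v List.mem_cons_self
    obtain ⟨t, ht⟩ := exists_notMem h4 (((v :: l).map fun w => f w / (f w - g w)).toFinset)
      ((List.toFinset_card_le _).trans (by simp only [List.length_map, List.length_cons]; omega))
    refine ⟨(1 - t) • f + t • g, by simp [hfe, hge], by simp [hfu, hgu], fun w hw e' => ?_⟩
    simp only [LinearMap.add_apply, LinearMap.smul_apply, smul_eq_mul] at e'
    by_cases hd : f w - g w = 0
    · have hfw : f w = 0 := by linear_combination e' + t * hd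
      rcases List.mem_cons.mp hw with rfl | hw'
      · exact hg (by linear_combination hfw - hd)
      · exact hf w hw' hfw
    · refine ht (List.mem_toFinset.mpr (List.mem_map.mpr ⟨w, hw, ?_⟩))
      rw [div_eq_iff hd]
      linear_combination e'

/-- The line through two vectors. -/
theorem exists_value {e u : V} (hind : ∀ a b : K, a • e + b • u = 0 → a = 0 ∧ b = 0) :
    (∃ f : V →ₗ[K] K, f e = 1 ∧ f u = 1) ∧
      ∀ v : V, v ∉ Submodule.span K {u - e} → ∃ f : V →ₗ[K] K, f e = 1 ∧ f u = 1 ∧ f v ≠ 0 := by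
  have he : e ∉ Submodule.span K {u} := fun h => by
    obtain ⟨a, ha⟩ := Submodule.mem_span_singleton.mp h
    exact one_ne_zero (hind 1 (-a) (by rw [← ha]; simp)).1
  have hu : u ∉ Submodule.span K {e} := fun h => by
    obtain ⟨a, ha⟩ := Submodule.mem_span_singleton.mp h
    exact one_ne_zero (hind (-a) 1 (by rw [← ha]; simp)).2
  obtain ⟨φ, h1, h2⟩ := sep he
  obtain ⟨ψ, h3, h4⟩ := sep hu
  have hb : (φ + ψ) e = 1 ∧ (φ + ψ) u = 1 := by
    simp [h1, h3, h2 u (Submodule.mem_span_singleton_self u), h4 e (Submodule.mem_span_singleton_self e)]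
  refine ⟨⟨_, hb⟩, fun v hv => ?_⟩
  by_cases hv' : v ∈ Submodule.span K {e, u}
  · obtain ⟨a, b, rfl⟩ := Submodule.mem_span_pair.mp hv'
    refine ⟨_, hb.1, hb.2, fun h => hv (Submodule.mem_span_singleton.mpr ⟨b, ?_⟩)⟩
    rw [map_add, map_smul, map_smul, hb.1, hb.2] at h
    have hab : a = -b := by simpa [add_eq_zero_iff_eq_neg] using h
    rw [hab]; module
  · obtain ⟨χ, h5, h6⟩ := sep hv'
    by_cases h : (φ + ψ) v = 0
    · refine ⟨φ + ψ + χ, ?_, ?_, ?_⟩
      · rw [LinearMap.add_apply, hb.1, h6 e (Submodule.subset_span (by simp)), add_zero]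
      · rw [LinearMap.add_apply, hb.2, h6 u (Submodule.subset_span (by simp)), add_zero]
      · rw [LinearMap.add_apply, h, h5, zero_add]; exact one_ne_zero
    · exact ⟨_, hb.1, hb.2, h⟩

theorem exists_off_line {p : Submodule K V} {w : V} (h : ¬ p ≤ Submodule.span K {w}) :
    ∃ x ∈ p, x ∉ Submodule.span K {w} := SetLike.not_le_iff_exists.mp h

variable [FiniteDimensional K V]

theorem exists_off_line_of_two {p : Submodule K V} (h : 2 ≤ finrank K p) (w : V) :
    ∃ x ∈ p, x ∉ Submodule.span K {w} := by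
  refine exists_off_line fun hle => ?_
  have := Submodule.finrank_mono hle
  have h1 : finrank K (Submodule.span K {w}) ≤ 1 := by
    refine (finrank_span_le_card ({w} : Set V)).trans ?_
    simp
  omega

theorem finrank_comap_le {W : Type*} [AddCommGroup W] [Module K W] [FiniteDimensional K W] (T : V →ₗ[K] W)
    (S : Submodule K W) : finrank K (S.comap T) ≤ finrank K (LinearMap.ker T) + finrank K S := by
  have h := LinearMap.finrank_range_add_finrank_ker (T.domRestrict (S.comap T))
  have h1 : finrank K (LinearMap.range (T.domRestrict (S.comap T))) ≤ finrank K S :=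
    Submodule.finrank_mono (by rintro _ ⟨x, rfl⟩; exact x.2)
  have h2 : finrank K (LinearMap.ker (T.domRestrict (S.comap T))) ≤ finrank K (LinearMap.ker T) := by
    rw [← Submodule.finrank_map_subtype_eq (S.comap T)]
    exact Submodule.finrank_mono (by rintro _ ⟨x, hx, rfl⟩; exact hx)
  omega

theorem finrank_span_singleton_le (w : V) : finrank K (Submodule.span K {w}) ≤ 1 := by
  refine (finrank_span_le_card ({w} : Set V)).trans ?_
  simp

theorem det_one_add_sq_zero (N : Module.End K V) (h : N * N = 0) : LinearMap.det (1 + N) = 1 := by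
  classical
  let b := Module.finBasis K V
  rw [← LinearMap.det_toMatrix b, map_add]
  have hone : LinearMap.toMatrix b b (1 : Module.End K V) = 1 := LinearMap.toMatrix_id b
  rw [hone]
  set A := LinearMap.toMatrix b b N
  have hA : IsNilpotent A := by
    refine IsNilpotent.mk _ 2 ?_
    rw [pow_two, ← LinearMap.toMatrix_mul, h, map_zero]
  have hsplit : 1 + A = Matrix.scalar _ (1 : K) - (-A) := by rw [map_one, sub_neg_eq_add]
  have hch : (-A).charpoly = Polynomial.X ^ Fintype.card (Fin (finrank K V)) :=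
    sub_eq_zero.mp (Matrix.isNilpotent_charpoly_sub_pow_of_isNilpotent hA.neg).eq_zero
  rw [hsplit, ← Matrix.eval_charpoly, hch, Polynomial.eval_pow, Polynomial.eval_X, one_pow]

/-- The eigenspace. -/
abbrev eigKer (M : Module.End K V) (a : K) : Submodule K V := LinearMap.ker (M - a • 1)

theorem mem_eigKer {M : Module.End K V} {a : K} {v : V} : v ∈ eigKer M a ↔ M v = a • v := by
  simp [eigKer, sub_eq_zero]

theorem eigKer_three (M : Module.End K V) {a b c : K} (hab : a ≠ b) (hac : a ≠ c) (hbc : b ≠ c) :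
    finrank K (eigKer M a) + finrank K (eigKer M b) + finrank K (eigKer M c) ≤ finrank K V := by
  have h1 : eigKer M a ⊓ eigKer M b = ⊥ := by
    rw [Submodule.eq_bot_iff]
    rintro v ⟨hv, hw⟩
    have e : (a - b) • v = 0 := by rw [sub_smul, ← mem_eigKer.mp hv, ← mem_eigKer.mp hw, sub_self]
    exact (smul_eq_zero.mp e).resolve_left (sub_ne_zero.mpr hab)
  have h2 : (eigKer M a ⊔ eigKer M b) ⊓ eigKer M c = ⊥ := by
    rw [Submodule.eq_bot_iff]
    rintro v ⟨hv, hw⟩
    obtain ⟨x, hx, y, hy, rfl⟩ := Submodule.mem_sup.mp hv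
    have e := mem_eigKer.mp hw
    rw [map_add, mem_eigKer.mp hx, mem_eigKer.mp hy, smul_add] at e
    have hmem : (a - c) • x ∈ eigKer M a ⊓ eigKer M b := by
      refine ⟨Submodule.smul_mem _ _ hx, ?_⟩
      have e2 : (a - c) • x = (c - b) • y := by
        rw [sub_smul, sub_smul, sub_eq_sub_iff_add_eq_add, e]; abel
      rw [e2]
      exact Submodule.smul_mem _ _ hy
    rw [h1, Submodule.mem_bot, smul_eq_zero, sub_eq_zero] at hmem
    have hx0 : x = 0 := hmem.resolve_left hac
    rw [hx0] at e
    simp only [smul_zero, zero_add] at e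
    have e3 : (b - c) • y = 0 := by rw [sub_smul, e, sub_self]
    rw [hx0, (smul_eq_zero.mp e3).resolve_left (sub_ne_zero.mpr hbc), add_zero]
  have a1 := Submodule.finrank_sup_add_finrank_inf_eq (eigKer M a) (eigKer M b)
  have a2 := Submodule.finrank_sup_add_finrank_inf_eq (eigKer M a ⊔ eigKer M b) (eigKer M c)
  rw [h1, finrank_bot] at a1
  rw [h2, finrank_bot] at a2
  have := Submodule.finrank_le (eigKer M a ⊔ eigKer M b ⊔ eigKer M c)
  omega

/-- A vector that is no eigenvector, off two hyperplanes. -/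
theorem exists_noneigen (h4 : ∃ k : Fin 4 → K, Function.Injective k) (M : Module.End K V)
    (hM : ¬ ∃ s : K, M = s • 1) {φ ψ : V →ₗ[K] K} (hφ : φ ≠ 0) (hψ : ψ ≠ 0) :
    ∃ e : V, φ e ≠ 0 ∧ ψ e ≠ 0 ∧ ∀ a : K, M e ≠ a • e := by
  classical
  obtain ⟨u, hu⟩ := avoid_lin h4 [φ, ψ] (by simp) (by simp [hφ, hψ])
  simp only [List.mem_cons, List.not_mem_nil, or_false, forall_eq_or_imp, forall_eq] at hu
  by_cases hue : ∀ a : K, M u ≠ a • u
  · exact ⟨u, hu.1, hu.2, hue⟩
  push Not at hue
  obtain ⟨a, ha⟩ := hue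
  have hne : eigKer M a ≠ ⊤ := fun h => hM ⟨a, LinearMap.ext fun x => by
    simpa using mem_eigKer.mp (h ▸ Submodule.mem_top : x ∈ eigKer M a)⟩
  obtain ⟨χ, hχ, hχ'⟩ := sep_proper hne
  obtain ⟨w, hw⟩ := avoid_lin h4 [φ, ψ, χ] (by simp) (by simp [hφ, hψ, hχ])
  simp only [List.mem_cons, List.not_mem_nil, or_false, forall_eq_or_imp, forall_eq] at hw
  by_cases hwe : ∀ a : K, M w ≠ a • w
  · exact ⟨w, hw.1, hw.2.1, hwe⟩
  push Not at hwe
  obtain ⟨d, hd⟩ := hwe
  have had : d ≠ a := fun e => hw.2.2 (hχ' w (mem_eigKer.mpr (e ▸ hd)))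
  obtain ⟨t, ht⟩ := exists_notMem h4 {0, -(φ u) / φ w, -(ψ u) / ψ w} Finset.card_le_three
  simp only [Finset.mem_insert, Finset.mem_singleton, not_or] at ht
  refine ⟨u + t • w, fun e => ht.2.1 ?_, fun e => ht.2.2 ?_, fun c hc => ?_⟩
  · rw [eq_div_iff hw.1]; simp only [map_add, map_smul, smul_eq_mul] at e; linear_combination e
  · rw [eq_div_iff hw.2.1]; simp only [map_add, map_smul, smul_eq_mul] at e; linear_combination e
  · rw [map_add, map_smul, ha, hd] at hc
    have hu0 : u ≠ 0 := fun e => hu.1 (by rw [e, map_zero])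
    have hw0 : w ≠ 0 := fun e => hw.1 (by rw [e, map_zero])
    have h1 : (a - c) • u = (t * (c - d)) • w := by
      rw [sub_smul, mul_smul, sub_smul, smul_sub, smul_comm t c w]
      rw [sub_eq_sub_iff_add_eq_add, hc, smul_add]
      abel
    have h2 := congrArg M h1
    rw [map_smul, map_smul, ha, hd, smul_comm, h1, smul_smul, smul_smul] at h2
    have h3 := smul_left_injective K hw0 h2
    rcases mul_eq_zero.mp (show (a - d) * (t * (c - d)) = 0 by linear_combination h3) with h | h
    · exact had (sub_eq_zero.mp h).symm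
    rcases mul_eq_zero.mp h with h | h
    · exact ht.1 h
    · have hcd : c = d := sub_eq_zero.mp h
      rw [hcd, sub_self, mul_zero, zero_smul, smul_eq_zero, sub_eq_zero] at h1
      exact had (h1.resolve_right hu0).symm

/-- A plane of determinant one forces a fixed line in dimension three. -/
theorem plane_fixed (M : Module.End K V) (h3 : finrank K V = 3) (hdet : LinearMap.det M = 1) {e : V} {r : K}
    (hne : ∀ a : K, M e ≠ a • e) (he : M (M e) = r • M e - e) : LinearMap.range (M - 1) ≠ ⊤ := by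
  classical
  have he0 : e ≠ 0 := fun h => hne 0 (by simp [h])
  set P := Submodule.span K ({e, M e} : Set V) with hP
  have heP : e ∈ P := Submodule.subset_span (by simp)
  have hMeP : M e ∈ P := Submodule.subset_span (by simp)
  have hP2 : finrank K P ≤ 2 := by
    refine (finrank_span_le_card ({e, M e} : Set V)).trans ?_
    rw [Set.toFinset_insert, Set.toFinset_singleton]
    exact Finset.card_le_two
  obtain ⟨w, hw⟩ : ∃ w, w ∉ P := by
    by_contra h
    push Not at h
    rw [(Submodule.eq_top_iff'.mpr h), finrank_top] at hP2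
    omega
  have hli : LinearIndependent K ![e, M e, w] := by
    rw [Fintype.linearIndependent_iff]
    intro g hg
    simp only [Fin.sum_univ_three, Matrix.cons_val_zero, Matrix.cons_val_one, Matrix.cons_val] at hg
    have g2 : g 2 = 0 := by
      by_contra h
      refine hw ?_
      have : g 2 • w = -(g 0 • e + g 1 • M e) := by rw [← add_eq_zero_iff_neg_eq.mp hg]
      have h' : g 2 • w ∈ P := this ▸ P.neg_mem (P.add_mem (P.smul_mem _ heP) (P.smul_mem _ hMeP))
      exact (P.smul_mem_iff h).mp h'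
    rw [g2, zero_smul, add_zero] at hg
    have g1 : g 1 = 0 := by
      by_contra h
      refine hne (-(g 1)⁻¹ * g 0) ?_
      have : g 1 • M e = -(g 0 • e) := eq_neg_of_add_eq_zero_right hg
      rw [mul_smul, neg_smul, ← smul_neg, ← this, smul_smul, inv_mul_cancel₀ h, one_smul]
    rw [g1, zero_smul, add_zero] at hg
    have g0 : g 0 = 0 := (smul_eq_zero.mp hg).resolve_right he0
    intro i; fin_cases i <;> assumption
  let B := basisOfLinearIndependentOfCardEqFinrank hli (by simp [h3])
  have hB : ∀ i, B i = ![e, M e, w] i := fun i => by simp [B]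
  obtain ⟨x, y, z, hz⟩ : ∃ x y z : K, M w = x • e + y • M e + z • w := by
    refine ⟨B.repr (M w) 0, B.repr (M w) 1, B.repr (M w) 2, ?_⟩
    conv_lhs => rw [← B.sum_repr (M w)]
    simp [Fin.sum_univ_three, hB]
  have key : ∀ (v : V) (a b c : K), v = a • e + b • M e + c • w → ∀ i, B.repr v i = ![a, b, c] i := by
    intro v a b c hv i
    have : v = a • B 0 + b • B 1 + c • B 2 := by simp [hv, hB]
    rw [this, map_add, map_add, map_smul, map_smul, map_smul]
    fin_cases i <;> simp
  have hd : LinearMap.det M = z := by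
    rw [← LinearMap.det_toMatrix B, Matrix.det_fin_three]
    simp only [LinearMap.toMatrix_apply, hB, Matrix.cons_val_zero, Matrix.cons_val_one, Matrix.cons_val,
      key (M e) 0 1 0 (by simp), key (M (M e)) (-1) r 0 (by rw [he]; module), key (M w) x y z hz]
    ring
  rw [hd] at hdet
  intro htop
  have hr : LinearMap.range (M - 1) ≤ P := by
    rintro _ ⟨v, rfl⟩
    obtain ⟨a, b, c, rfl⟩ : ∃ a b c : K, v = a • e + b • M e + c • w := by
      refine ⟨B.repr v 0, B.repr v 1, B.repr v 2, ?_⟩
      conv_lhs => rw [← B.sum_repr v]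
      simp [Fin.sum_univ_three, hB]
    have e' : (M - 1) (a • e + b • M e + c • w) =
        a • (M e - e) + b • (r • M e - e - M e) + c • (x • e + y • M e) := by
      simp only [LinearMap.sub_apply, Module.End.one_apply, map_add, map_smul, he, hz, hdet]
      module
    rw [e']
    exact P.add_mem (P.add_mem (P.smul_mem _ (P.sub_mem hMeP heP))
      (P.smul_mem _ (P.sub_mem (P.sub_mem (P.smul_mem _ hMeP) heP) hMeP)))
      (P.smul_mem _ (P.add_mem (P.smul_mem _ heP) (P.smul_mem _ hMeP)))
  have := Submodule.finrank_mono hr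
  rw [htop, finrank_top, h3] at this
  omega

end CfsgLib.RegUnipProd
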