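import Cfsg.Agent.Lib.RegUnipProd.Basic

/-!
The choice of a vector and a functional for one step of the factorisation.
-/

set_option autoImplicit false
set_option linter.unusedSectionVars false

namespace CfsgLib.RegUnipProd

open Module LinearMap

variable {K : Type*} [Field K] {V : Type*} [AddCommGroup V] [Module K V] [FiniteDimensional K V]

theorem sub_smul_one_apply (M : Module.End K V) (s : K) (x : V) : (M - s • 1) x = M x - s • x := by
  simp

theorem sub_one_apply' (M : Module.End K V) (x : V) : (M - 1) x = M x - x := by simp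

/-- The data for one step. -/
theorem choose_ef (h4 : ∃ k : Fin 4 → K, Function.Injective k) (M : Module.End K V) (hdet : LinearMap.det M = 1)
    (hr : 2 ≤ finrank K (LinearMap.range (M - 1))) (hns : ¬ ∃ s : K, M = s • 1)
    {c : V} {b : V →ₗ[K] K} (hc : c ≠ 0) (hb : b ≠ 0) :
    ∃ (e : V) (f : V →ₗ[K] K), f e = 1 ∧ f (M e) = 1 ∧ b e ≠ 0 ∧ f c ≠ 0 ∧ M e ≠ e ∧
      (∃ y, f (M y - y) ≠ 0) ∧
      (3 ≤ finrank K V →
        finrank K ((Submodule.span K {M e}).comap (M - 1) ⊓ LinearMap.ker f : Submodule K V) + 3 ≤ finrank K V ∧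
        ∀ s : K, s ≠ 1 → s ^ (finrank K V - 1) = 1 →
          ¬ LinearMap.ker f ≤ (Submodule.span K {M e}).comap (M - s • 1)) := by
  classical
  set m := finrank K V with hm
  set E1 := LinearMap.ker (M - 1) with hE1
  set I := LinearMap.range (M - 1) with hI
  have hrn := LinearMap.finrank_range_add_finrank_ker (M - 1)
  rw [← hI, ← hE1, ← hm] at hrn
  have hI1 : E1 = eigKer M 1 := by rw [hE1, eigKer, one_smul]
  set Z := (Submodule.span K {c}).comap (M - 1) with hZ
  have hZle : finrank K Z ≤ finrank K E1 + 1 :=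
    (finrank_comap_le _ _).trans (Nat.add_le_add_left (finrank_span_singleton_le c) _)
  have hZtop : Z ≠ ⊤ := fun h => by
    rw [h, finrank_top] at hZle
    omega
  obtain ⟨φZ, hφZ, hφZ'⟩ := sep_proper hZtop
  -- the exceptional plane in dimension three
  obtain ⟨X, hX, hXspec⟩ : ∃ X : Submodule K V, X ≠ ⊤ ∧ (1 ≤ finrank K E1 → m = 3 →
      (E1 ≤ I → E1.comap (M - 1) ≤ X) ∧ (¬ E1 ≤ I → finrank K (eigKer M (-1)) ≤ 1 → E1 ⊔ eigKer M (-1) ≤ X)) := by
    by_cases hcase : 1 ≤ finrank K E1 ∧ m = 3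
    · obtain ⟨hk, hm3⟩ := hcase
      by_cases hE : E1 ≤ I
      · refine ⟨E1.comap (M - 1), fun h => ?_, fun _ _ => ⟨fun _ => le_rfl, fun h' => absurd hE h'⟩⟩
        have := finrank_comap_le (M - 1) E1
        rw [h, finrank_top] at this
        rw [← hE1] at this
        omega
      · by_cases hd : finrank K (eigKer M (-1)) ≤ 1
        · refine ⟨E1 ⊔ eigKer M (-1), fun h => ?_, fun _ _ => ⟨fun h' => absurd h' hE, fun _ _ => le_rfl⟩⟩
          have := Submodule.finrank_sup_add_finrank_inf_eq E1 (eigKer M (-1))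
          rw [h, finrank_top] at this
          omega
        · refine ⟨I, fun h => ?_, fun _ _ => ⟨fun h' => absurd h' hE, fun _ h' => absurd h' hd⟩⟩
          rw [h, finrank_top] at hrn
          omega
    · refine ⟨Z, hZtop, fun h1 h2 => absurd ⟨h1, h2⟩ hcase⟩
  obtain ⟨φX, hφX, hφX'⟩ := sep_proper hX
  -- the vector
  obtain ⟨e, hbe, heZ, hne, heI, heX⟩ : ∃ e : V, b e ≠ 0 ∧ e ∉ Z ∧ (∀ a : K, M e ≠ a • e) ∧
      (1 ≤ finrank K E1 → e ∉ I) ∧ (1 ≤ finrank K E1 → e ∉ X) := by
    rcases Nat.eq_zero_or_pos (finrank K E1) with h0 | hk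
    · obtain ⟨e, h1, h2, h3⟩ := exists_noneigen h4 M hns hb hφZ
      exact ⟨e, h1, fun h => h2 (hφZ' e h), h3, fun h => by omega, fun h => by omega⟩
    · have hItop : I ≠ ⊤ := fun h => by
        rw [h, finrank_top] at hrn
        omega
      obtain ⟨φI, hφI, hφI'⟩ := sep_proper hItop
      obtain ⟨e, he⟩ := avoid_lin h4 [b, φZ, φI, φX] (by simp) (by simp [hb, hφZ, hφI, hφX])
      simp only [List.mem_cons, List.not_mem_nil, or_false, forall_eq_or_imp, forall_eq] at he
      refine ⟨e, he.1, fun h => he.2.1 (hφZ' e h), fun a ha => ?_, fun _ h => he.2.2.1 (hφI' e h),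
        fun _ h => he.2.2.2 (hφX' e h)⟩
      by_cases ha1 : a = 1
      · refine he.2.1 (hφZ' e ?_)
        rw [hZ, Submodule.mem_comap, sub_one_apply', ha, ha1, one_smul, sub_self]
        exact Submodule.zero_mem _
      · refine he.2.2.1 (hφI' e ⟨(a - 1)⁻¹ • e, ?_⟩)
        rw [map_smul, sub_one_apply', ha]
        rw [show a • e - e = (a - 1) • e by rw [sub_smul, one_smul], smul_smul,
          inv_mul_cancel₀ (sub_ne_zero.mpr ha1), one_smul]
  set u := M e - e with hu
  have hu0 : u ≠ 0 := fun h => hne 1 (by rw [one_smul]; exact sub_eq_zero.mp h)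
  have hTe : (M - 1) e = u := sub_one_apply' M e
  have hind : ∀ a d : K, a • e + d • M e = 0 → a = 0 ∧ d = 0 := by
    intro a d h
    have hd : d = 0 := by
      by_contra hd
      refine hne (-(d⁻¹ * a)) ?_
      have : d • M e = -(a • e) := eq_neg_of_add_eq_zero_right h
      rw [neg_smul, mul_smul, ← smul_neg, ← this, smul_smul, inv_mul_cancel₀ hd, one_smul]
    rw [hd, zero_smul, add_zero] at h
    refine ⟨(smul_eq_zero.mp h).resolve_right fun he0 => hne 1 (by simp [he0]), hd⟩
  obtain ⟨hbase, hval⟩ := exists_value hind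
  have hline : ∀ v : V, v ≠ 0 → v ∈ Submodule.span K {u} → ∃ μ : K, μ ≠ 0 ∧ v = μ • u := by
    intro v hv h
    obtain ⟨μ, hμ⟩ := Submodule.mem_span_singleton.mp h
    exact ⟨μ, fun h0 => hv (by rw [← hμ, h0, zero_smul]), hμ.symm⟩
  have hcu : c ∉ Submodule.span K {u} := fun h => by
    obtain ⟨μ, hμ, hcμ⟩ := hline c hc h
    refine heZ ?_
    rw [hZ, Submodule.mem_comap, hTe, Submodule.mem_span_singleton]
    exact ⟨μ⁻¹, by rw [hcμ, smul_smul, inv_mul_cancel₀ hμ, one_smul]⟩
  -- a vector of the image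
  obtain ⟨z₀, hz₀I, hz₀⟩ := exists_off_line_of_two hr u
  by_cases hm3 : 3 ≤ m
  swap
  · obtain ⟨f, hfe, hfu, hf⟩ := avoid_affine h4 e (M e) hbase [c, z₀] (by simp)
      (fun v hv => hval v (by
        simp only [List.mem_cons, List.not_mem_nil, or_false] at hv
        rcases hv with rfl | rfl <;> assumption))
    simp only [List.mem_cons, List.not_mem_nil, or_false, forall_eq_or_imp, forall_eq] at hf
    obtain ⟨y, hy⟩ := hz₀I
    exact ⟨e, f, hfe, hfu, hbe, hf.1, fun h => hne 1 (by rw [one_smul]; exact h),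
      ⟨y, by rw [← sub_one_apply', hy]; exact hf.2⟩, fun h => absurd h hm3⟩
  set P := (Submodule.span K {M e}).comap (M - 1) with hP
  have hPle : finrank K P ≤ finrank K E1 + 1 :=
    (finrank_comap_le _ _).trans (Nat.add_le_add_left (finrank_span_singleton_le _) _)
  have hPE : 1 ≤ finrank K E1 → P = E1 := fun hk => by
    refine le_antisymm (fun x hx => ?_) (fun x hx => by
      rw [hP, Submodule.mem_comap, LinearMap.mem_ker.mp hx]; exact Submodule.zero_mem _)
    obtain ⟨μ, hμ⟩ := Submodule.mem_span_singleton.mp (Submodule.mem_comap.mp hx)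
    by_cases h0 : μ = 0
    · rw [h0, zero_smul] at hμ
      exact LinearMap.mem_ker.mpr hμ.symm
    · exfalso
      refine heI hk ?_
      have h1 : M e ∈ I := ⟨μ⁻¹ • x, by rw [map_smul, ← hμ, smul_smul, inv_mul_cancel₀ h0, one_smul]⟩
      have h2 : u ∈ I := ⟨e, hTe⟩
      have := I.sub_mem h1 h2
      rwa [hu, sub_sub_cancel] at this
  -- the fixed vector
  obtain ⟨p, hp, hpu⟩ : ∃ p : V, (m ≤ finrank K P + 2 → p ∈ P) ∧ p ∉ Submodule.span K {u} := by
    by_cases hneed : m ≤ finrank K P + 2
    swap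
    · exact ⟨c, fun h => absurd h hneed, hcu⟩
    rcases Nat.eq_zero_or_pos (finrank K E1) with h0 | hk
    · have hm' : m = 3 := by omega
      have hItop : I = ⊤ := Submodule.eq_top_of_finrank_eq (by rw [← hm]; omega)
      obtain ⟨p, hTp⟩ : M e ∈ I := hItop ▸ Submodule.mem_top
      refine ⟨p, fun _ => Submodule.mem_comap.mpr (hTp ▸ Submodule.mem_span_singleton_self _), fun h => ?_⟩
      have hp0 : p ≠ 0 := fun h => by
        rw [h, map_zero] at hTp
        exact hne 0 (by rw [zero_smul, ← hTp])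
      obtain ⟨μ, hμ, hpμ⟩ := hline p hp0 h
      rw [hpμ, map_smul, sub_one_apply', hu, map_sub] at hTp
      refine plane_fixed M (hm.symm.trans hm') hdet (r := (2 * μ + 1) / μ) hne ?_ hItop
      have h2 : μ • M (M e) = (2 * μ + 1) • M e - μ • e := by
        conv_rhs => rw [add_smul, one_smul]
        nth_rw 3 [← hTp]
        module
      have h3 := congrArg (fun v => μ⁻¹ • v) h2
      simp only [smul_sub, smul_smul, inv_mul_cancel₀ hμ, one_smul] at h3
      rw [h3, mul_comm μ⁻¹, ← div_eq_mul_inv]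
    · rw [hPE hk] at hneed ⊢
      rcases Nat.lt_or_ge (finrank K E1) 2 with h1 | h2
      · have hm' : m = 3 := by omega
        obtain ⟨p, hpE, hp0⟩ := E1.exists_mem_ne_zero_of_ne_bot (fun h => by rw [h, finrank_bot] at hk; omega)
        refine ⟨p, fun _ => hpE, fun h => ?_⟩
        obtain ⟨μ, hμ, hpμ⟩ := hline p hp0 h
        have hle : E1 ≤ I := by
          intro x hx
          have hspan : E1 = Submodule.span K {p} := (Submodule.eq_of_le_of_finrank_le
            ((Submodule.span_singleton_le_iff_mem _ _).mpr hpE) (by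
              have := finrank_span_singleton (K := K) hp0; omega)).symm
          rw [hspan] at hx
          refine (Submodule.span_singleton_le_iff_mem _ _).mpr ?_ hx
          exact ⟨μ • e, by rw [map_smul, hTe, hpμ]⟩
        refine heX hk ((hXspec hk hm').1 hle ?_)
        rw [Submodule.mem_comap, hTe]
        have := E1.smul_mem μ⁻¹ hpE
        rwa [hpμ, smul_smul, inv_mul_cancel₀ hμ, one_smul] at this
      · obtain ⟨p, hpE, hpu⟩ := exists_off_line_of_two h2 u
        exact ⟨p, fun _ => hpE, hpu⟩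
  -- the scalars to avoid
  let Bad : K → Prop := fun s => s ≠ 1 ∧ s ^ (m - 1) = 1 ∧
    m - 1 ≤ finrank K ((Submodule.span K {M e}).comap (M - s • 1) : Submodule K V)
  have hBE : ∀ s, Bad s → m - 2 ≤ finrank K (eigKer M s) := fun s hs => by
    have := (finrank_comap_le (M - s • 1) (Submodule.span K {M e})).trans
      (Nat.add_le_add_left (finrank_span_singleton_le _) _)
    have := hs.2.2
    show m - 2 ≤ finrank K (LinearMap.ker (M - s • 1))
    omega
  have hB3 : m = 3 → ∀ s, Bad s → s = -1 := fun h s hs => by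
    have h2 := hs.2.1
    rw [h] at h2
    norm_num at h2
    rcases h2 with h2 | h2
    · exact absurd h2 hs.1
    · exact h2
  have hEI : ∀ (s : K), s ≠ 1 → ∀ q ∈ eigKer M s, q ∈ I := fun s hs q hq => by
    refine ⟨(s - 1)⁻¹ • q, ?_⟩
    rw [map_smul, sub_one_apply', mem_eigKer.mp hq, show s • q - q = (s - 1) • q by rw [sub_smul, one_smul],
      smul_smul, inv_mul_cancel₀ (sub_ne_zero.mpr hs), one_smul]
  have hq : ∀ s, Bad s → ∃ q ∈ eigKer M s, q ∉ Submodule.span K {u} := by
    intro s hs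
    rcases Nat.lt_or_ge (finrank K (eigKer M s)) 2 with h1 | h2
    swap
    · exact exists_off_line_of_two h2 u
    have hm' : m = 3 := by have := hBE s hs; omega
    obtain ⟨q, hqE, hq0⟩ := (eigKer M s).exists_mem_ne_zero_of_ne_bot (fun h => by
      have := hBE s hs; rw [h, finrank_bot] at this; omega)
    refine ⟨q, hqE, fun h => ?_⟩
    obtain ⟨μ, hμ, hqμ⟩ := hline q hq0 h
    have huE : u ∈ eigKer M s := by
      have := (eigKer M s).smul_mem μ⁻¹ hqE
      rwa [hqμ, smul_smul, inv_mul_cancel₀ hμ, one_smul] at this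
    -- `e` lies in the sum of the fixed space and the eigenspace
    have hsplit : e - (s - 1)⁻¹ • u ∈ E1 := by
      rw [hE1, LinearMap.mem_ker, map_sub, map_smul, hTe, sub_one_apply', mem_eigKer.mp huE,
        show s • u - u = (s - 1) • u by rw [sub_smul, one_smul], smul_smul,
        inv_mul_cancel₀ (sub_ne_zero.mpr hs.1), one_smul, sub_self]
    have hmem : e ∈ E1 ⊔ eigKer M s := by
      have := Submodule.add_mem_sup hsplit ((eigKer M s).smul_mem (s - 1)⁻¹ huE)
      rwa [sub_add_cancel] at this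
    rcases Nat.eq_zero_or_pos (finrank K E1) with h0 | hk
    · rw [Submodule.finrank_eq_zero.mp h0, bot_sup_eq] at hmem
      exact hne s (mem_eigKer.mp hmem)
    · by_cases hle : E1 ≤ I
      · exact heI hk (sup_le hle (fun x hx => hEI s hs.1 x hx) hmem)
      · rw [hB3 hm' s hs] at hmem h1
        exact heX hk ((hXspec hk hm').2 hle (by omega) hmem)
  have hprod : ∀ s t, Bad s → Bad t → s ≠ t → finrank K E1 + (m - 2) + (m - 2) ≤ m := fun s t hs ht hst => by
    have := eigKer_three M (Ne.symm hs.1) (Ne.symm ht.1) hst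
    rw [← hI1, ← hm] at this
    have := hBE s hs; have := hBE t ht
    omega
  obtain ⟨l, hlen, hadm, hlB, hlI⟩ : ∃ l : List V, l.length ≤ 3 ∧ (∀ v ∈ l, v ∉ Submodule.span K {u}) ∧
      (∀ s, Bad s → ∃ q ∈ eigKer M s, q ∈ l) ∧
      (c ∈ l ∧ (∃ z ∈ l, z ∈ I) ∧ (m ≤ finrank K P + 2 → ∃ p ∈ l, p ∈ P)) := by
    by_cases hex : ∃ s, Bad s
    · obtain ⟨s, hs⟩ := hex
      obtain ⟨q, hqs, hqu⟩ := hq s hs
      by_cases hex2 : ∃ t, Bad t ∧ t ≠ s
      · obtain ⟨t, ht, hts⟩ := hex2
        obtain ⟨q', hqt, hqu'⟩ := hq t ht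
        have hm4 : m ≠ 3 := fun h => hts ((hB3 h t ht).trans (hB3 h s hs).symm)
        have hb2 := hprod s t hs ht (Ne.symm hts)
        refine ⟨[c, q, q'], by simp, by simp [hcu, hqu, hqu'], fun r hr => ?_, by simp,
          ⟨q, by simp, hEI s hs.1 q hqs⟩, fun h => by omega⟩
        by_cases h1 : r = s
        · exact ⟨q, h1 ▸ hqs, by simp⟩
        by_cases h2 : r = t
        · exact ⟨q', h2 ▸ hqt, by simp⟩
        exfalso
        have := eigKer_three M (Ne.symm hts) (Ne.symm h1) (Ne.symm h2)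
        rw [← hm] at this
        have := hBE s hs; have := hBE t ht; have := hBE r hr
        omega
      · push Not at hex2
        exact ⟨[c, p, q], by simp, by simp [hcu, hpu, hqu], fun r hr => ⟨q, (hex2 r hr) ▸ hqs, by simp⟩, by simp,
          ⟨q, by simp, hEI s hs.1 q hqs⟩, fun h => ⟨p, by simp, hp h⟩⟩
    · exact ⟨[c, p, z₀], by simp, by simp [hcu, hpu, hz₀], fun r hr => absurd ⟨r, hr⟩ hex, by simp,
        ⟨z₀, by simp, hz₀I⟩, fun h => ⟨p, by simp, hp h⟩⟩
  obtain ⟨hcl, ⟨z, hzl, hzI⟩, hpl⟩ := hlI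
  obtain ⟨f, hfe, hfu, hf⟩ := avoid_affine h4 e (M e) hbase l hlen fun v hv => hval v (hadm v hv)
  obtain ⟨y, hy⟩ := hzI
  refine ⟨e, f, hfe, hfu, hbe, hf c hcl, fun h => hne 1 (by rw [one_smul]; exact h),
    ⟨y, by rw [← sub_one_apply', hy]; exact hf z hzl⟩, fun _ => ⟨?_, fun s hs1 hsm hle => ?_⟩⟩
  · show finrank K (P ⊓ LinearMap.ker f : Submodule K V) + 3 ≤ m
    by_cases hneed : m ≤ finrank K P + 2
    · obtain ⟨p', hp'l, hp'⟩ := hpl hneed
      have hlt : P ⊓ LinearMap.ker f < P := lt_of_le_of_ne inf_le_left fun h => by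
        rw [← h] at hp'
        exact hf p' hp'l (LinearMap.mem_ker.mp hp'.2)
      have := Submodule.finrank_lt_finrank_of_lt hlt
      rcases Nat.eq_zero_or_pos (finrank K E1) with h0 | hk
      · omega
      · rw [hPE hk] at this ⊢
        omega
    · have := Submodule.finrank_mono (inf_le_left : P ⊓ LinearMap.ker f ≤ P)
      omega
  · have hker : m - 1 ≤ finrank K (LinearMap.ker f) := by
      have h := LinearMap.finrank_range_add_finrank_ker f
      have := Submodule.finrank_le (LinearMap.range f)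
      rw [finrank_self] at this
      omega
    obtain ⟨q, hqs, hql⟩ := hlB s ⟨hs1, hsm, hker.trans (Submodule.finrank_mono hle)⟩
    have heq : LinearMap.ker f = (Submodule.span K {M e}).comap (M - s • 1) := by
      refine Submodule.eq_of_le_of_finrank_le hle ?_
      have hne' : (Submodule.span K {M e}).comap (M - s • 1) ≠ ⊤ := fun h => by
        have he' : e ∈ (Submodule.span K {M e}).comap (M - s • 1) := h ▸ Submodule.mem_top
        obtain ⟨a, ha⟩ := Submodule.mem_span_singleton.mp (Submodule.mem_comap.mp he')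
        rw [sub_smul_one_apply] at ha
        have := (hind s (a - 1) (by rw [sub_smul, ha, one_smul]; abel)).2
        rw [sub_eq_zero] at this
        rw [this, one_smul] at ha
        have hz : s • e = 0 := by
          have := ha; rwa [eq_comm, sub_eq_self] at this
        exact one_ne_zero (α := K) (by
          rcases smul_eq_zero.mp hz with h0 | h0
          · rw [h0, zero_pow (by omega)] at hsm; exact hsm.symm
          · exact absurd (by simp [h0]) (hne 1))
      have := Submodule.finrank_lt hne'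
      omega
    refine hf q hql (LinearMap.mem_ker.mp ?_)
    rw [heq, Submodule.mem_comap, LinearMap.mem_ker.mp hqs]
    exact Submodule.zero_mem _

end CfsgLib.RegUnipProd
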